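import Mathlib.RingTheory.PowerSeries.Substitution
import Mathlib.RingTheory.PowerSeries.Derivative
import Mathlib.RingTheory.PowerSeries.Inverse
import Mathlib.Algebra.CharP.Lemmas
import Mathlib.Algebra.Ring.GeomSum
import Mathlib.Tactic.LinearCombination
import Mathlib.Algebra.CharP.Algebra
import Mathlib.RingTheory.Int.Basic
import Mathlib.FieldTheory.IsAlgClosed.Basic

/-!
# The twisted action of `X ↦ X u`, `u ^ n (1 + X ^ n) = 1`, on power series in characteristic `p`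
-/

universe u

open PowerSeries

namespace Groth.Agent.ASCoverLib

variable {k : Type u} [Field k]

local notation "R" => PowerSeries k

section General

/-- Units congruent to `1` modulo `X ^ e` are closed under integral powers. -/
theorem dvd_zpow_sub_one {e : ℕ} (W : Rˣ) (h : X ^ e ∣ (W : R) - 1) (q : ℤ) :
    X ^ e ∣ ((W ^ q : Rˣ) : R) - 1 := by
  let π := Ideal.Quotient.mk (Ideal.span {(X : R) ^ e})
  have hπ : ∀ y : R, X ^ e ∣ y - 1 ↔ π y = 1 := fun y => by
    rw [← map_one π, Ideal.Quotient.eq, Ideal.mem_span_singleton]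
  have hW : Units.map π.toMonoidHom W = 1 := Units.ext ((hπ _).1 h)
  refine (hπ _).2 ?_
  have := congrArg Units.val (map_zpow (Units.map π.toMonoidHom) W q)
  rw [hW, one_zpow] at this
  exact this

theorem exists_geom_unit {n : ℕ} (hn : (n : k) ≠ 0) {v w : R} (hv : constantCoeff v = 1)
    (hw : constantCoeff w = 1) :
    ∃ e : R, IsUnit e ∧ constantCoeff e = n ∧ (v - w) * e = v ^ n - w ^ n := by
  refine ⟨∑ i ∈ Finset.range n, v ^ i * w ^ (n - 1 - i), ?_, ?_, ?_⟩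
  · rw [isUnit_iff_constantCoeff]
    simp [map_sum, hv, hw, hn]
  · simp [map_sum, hv, hw]
  · rw [mul_comm, geom_sum₂_mul]

theorem eq_of_pow_eq {n : ℕ} (hn : (n : k) ≠ 0) {v w : R} (hv : constantCoeff v = 1)
    (hw : constantCoeff w = 1) (h : v ^ n = w ^ n) : v = w := by
  obtain ⟨e, he, -, hee⟩ := exists_geom_unit hn hv hw
  rw [h, sub_self] at hee
  exact sub_eq_zero.1 (he.mul_left_eq_zero.1 hee)

end General

/-- The data of a twist. -/
structure Twist (k : Type u) [Field k] where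
  p : ℕ
  n : ℕ
  hp : p.Prime
  hchar : CharP k p
  hn : 0 < n
  hpn : ¬ p ∣ n
  U : (PowerSeries k)ˣ
  hu1 : constantCoeff (U : PowerSeries k) = 1
  hun : (U : PowerSeries k) ^ n * (1 + X ^ n) = 1

namespace Twist

variable (P : Twist k)

theorem n_ne_zero : (P.n : k) ≠ 0 := fun h =>
  have := P.hchar
  P.hpn ((CharP.cast_eq_zero_iff k P.p P.n).1 h)

theorem cast_ne_zero_iff (e : ℤ) : (e : k) ≠ 0 ↔ ¬ (P.p : ℤ) ∣ e := by
  have := P.hchar
  rw [Ne, CharP.intCast_eq_zero_iff k P.p e]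

theorem hasSubst : PowerSeries.HasSubst ((X : R) * (P.U : R)) :=
  PowerSeries.HasSubst.of_constantCoeff_zero' (by simp)

/-- The substitution `X ↦ X u`. -/
noncomputable def σ : R →ₐ[k] R := substAlgHom P.hasSubst

theorem σ_apply (f : R) : P.σ f = subst ((X : R) * (P.U : R)) f := by
  rw [σ, coe_substAlgHom]

theorem σ_X : P.σ X = X * (P.U : R) := substAlgHom_X P.hasSubst

theorem σ_C (c : k) : P.σ (C c) = C c := P.σ.commutes c

theorem constantCoeff_σ (f : R) : constantCoeff (P.σ f) = constantCoeff f := by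
  conv_lhs => rw [eq_X_mul_shift_add_const f, map_add, map_mul, P.σ_X, P.σ_C]
  simp

theorem u_sub_one : ∃ g : R, (P.U : R) - 1 = X ^ P.n * g ∧ constantCoeff g = -(1 / (P.n : k)) := by
  obtain ⟨e, he, he0, hee⟩ := exists_geom_unit (n := P.n) P.n_ne_zero P.hu1 (map_one _)
  obtain ⟨E, rfl⟩ := he
  refine ⟨-(((P.U : R) ^ P.n) * ((E⁻¹ : Rˣ) : R)), ?_, ?_⟩
  · apply E.isUnit.mul_left_injective
    simp only
    rw [hee, mul_assoc, neg_mul, mul_assoc, Units.inv_mul, mul_one, one_pow]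
    linear_combination P.hun
  · have h1 : constantCoeff ((E⁻¹ : Rˣ) : R) * constantCoeff (E : R) = 1 := by
      rw [← map_mul, Units.inv_mul, map_one]
    rw [map_neg, map_mul, map_pow, P.hu1, one_pow, one_mul, neg_inj, eq_div_iff P.n_ne_zero, ← he0, h1]

theorem u_zpow_sub_one (e : ℤ) :
    ∃ g : R, ((P.U ^ e : Rˣ) : R) - 1 = X ^ P.n * g ∧ constantCoeff g = -((e : k) / (P.n : k)) := by
  obtain ⟨g1, hg1, hg10⟩ := P.u_sub_one
  have hX : constantCoeff ((X : R) ^ P.n) = 0 := by simp [P.hn.ne']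
  induction e using Int.induction_on with
  | zero => exact ⟨0, by simp, by simp⟩
  | succ i ih =>
    obtain ⟨g, hg, hg0⟩ := ih
    refine ⟨g + g1 + X ^ P.n * g * g1, ?_, ?_⟩
    · rw [zpow_add_one, Units.val_mul, sub_eq_iff_eq_add.1 hg, sub_eq_iff_eq_add.1 hg1]; ring
    · simp only [map_add, map_mul, hX, zero_mul, add_zero, hg0, hg10]; push_cast; ring
  | pred i ih =>
    obtain ⟨g, hg, hg0⟩ := ih
    refine ⟨(g - g1) * ((P.U⁻¹ : Rˣ) : R), ?_, ?_⟩
    · have h1 : ((P.U ^ (-(i : ℤ) - 1) : Rˣ) : R) - 1 =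
          (((P.U ^ (-(i : ℤ)) : Rˣ) : R) - (P.U : R)) * ((P.U⁻¹ : Rˣ) : R) := by
        rw [sub_mul, Units.mul_inv, ← Units.val_mul, ← zpow_sub_one]
      rw [h1, ← mul_assoc, mul_sub, ← hg, ← hg1]; ring
    · have h1 : constantCoeff ((P.U⁻¹ : Rˣ) : R) = 1 := by
        have := congrArg constantCoeff P.U.inv_mul
        rwa [map_mul, P.hu1, mul_one, map_one] at this
      rw [map_mul, h1, mul_one, map_sub, hg0, hg10]; push_cast; ring

theorem dvd_σ_sub : ∀ f : R, X ^ (P.n + 1) ∣ P.σ f - f := by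
  obtain ⟨g1, hg1, -⟩ := P.u_sub_one
  have step : ∀ (j : ℕ), j ≤ P.n → (∀ f : R, X ^ j ∣ P.σ f - f) → ∀ f : R, X ^ (j + 1) ∣ P.σ f - f := by
    intro j hj ih f
    rw [eq_X_mul_shift_add_const f, map_add, map_mul, P.σ_X, P.σ_C]
    set f1 : R := PowerSeries.mk fun p => coeff (p + 1) f
    have h2 : X * (P.U : R) * P.σ f1 + C (constantCoeff f) - (X * f1 + C (constantCoeff f)) =
        X * (((P.U : R) - 1) * P.σ f1 + (P.σ f1 - f1)) := by ring
    rw [h2, pow_succ']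
    refine mul_dvd_mul_left X (dvd_add ?_ (ih f1))
    rw [hg1, mul_assoc]
    exact (pow_dvd_pow X hj).mul_right _
  have : ∀ j, j ≤ P.n + 1 → ∀ f : R, X ^ j ∣ P.σ f - f := by
    intro j
    induction j with
    | zero => intro _ f; simp
    | succ j ih => intro hj; exact step j (by omega) (ih (by omega))
  exact this _ le_rfl

/-- The twisted action `h ↦ u ^ a σ h`. -/
noncomputable def τ (a : ℤ) : Module.End k R :=
  LinearMap.mulLeft k ((P.U ^ a : Rˣ) : R) ∘ₗ P.σ.toLinearMap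

theorem τ_apply (a : ℤ) (h : R) :
    P.τ a h = ((P.U ^ a : Rˣ) : R) * subst ((X : R) * (P.U : R)) h := by
  simp [τ, P.σ_apply]

/-- `τ - 1`. -/
noncomputable def D (a : ℤ) : Module.End k R := P.τ a - 1

theorem D_apply (a : ℤ) (h : R) : P.D a h = ((P.U ^ a : Rˣ) : R) * P.σ h - h := rfl

theorem D_X_pow_mul (a : ℤ) (m : ℕ) (f : R) :
    ∃ g : R, P.D a (X ^ m * f) = X ^ (m + P.n) * g ∧
      constantCoeff g = -(((a + m : ℤ) : k) / (P.n : k)) * constantCoeff f := by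
  obtain ⟨w, hw, hw0⟩ := P.u_zpow_sub_one (a + m)
  obtain ⟨r, hr⟩ := P.dvd_σ_sub f
  refine ⟨w * P.σ f + X * r, ?_, ?_⟩
  · rw [P.D_apply, map_mul, map_pow, P.σ_X, mul_pow]
    have : ((P.U ^ (a + m) : Rˣ) : R) = ((P.U ^ a : Rˣ) : R) * (P.U : R) ^ m := by
      rw [zpow_add, zpow_natCast, Units.val_mul, Units.val_pow_eq_pow_val]
    rw [this] at hw
    rw [pow_add]
    rw [pow_succ] at hr
    linear_combination ((X : R) ^ m * P.σ f) * hw + (X : R) ^ m * hr
  · simp [hw0, P.constantCoeff_σ]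

theorem D_dvd (a : ℤ) {m : ℕ} {f : R} (h : X ^ m ∣ f) : X ^ (m + P.n) ∣ P.D a f := by
  obtain ⟨g, rfl⟩ := h
  obtain ⟨r, hr, -⟩ := P.D_X_pow_mul a m g
  exact ⟨r, hr⟩

theorem coeff_D_of_lt (a : ℤ) (h : R) {j : ℕ} (hj : j < P.n) : coeff j (P.D a h) = 0 :=
  X_pow_dvd_iff.1 (P.D_dvd a (m := 0) (f := h) (by simp)) j (by omega)

theorem D_iter (a : ℤ) : ∀ (j m : ℕ) (f : R), ∃ g : R, (P.D a ^ j) (X ^ m * f) = X ^ (m + j * P.n) * g ∧
    constantCoeff g =
      (∏ i ∈ Finset.range j, -(((a + m + i * P.n : ℤ) : k) / (P.n : k))) * constantCoeff f := by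
  intro j
  induction j with
  | zero => intro m f; exact ⟨f, by simp, by simp⟩
  | succ j ih =>
    intro m f
    obtain ⟨g, hg, hg0⟩ := ih m f
    obtain ⟨g', hg', hg'0⟩ := P.D_X_pow_mul a (m + j * P.n) g
    refine ⟨g', ?_, ?_⟩
    · rw [pow_succ', Module.End.mul_apply, hg, hg', show m + (j + 1) * P.n = m + j * P.n + P.n by ring]
    · rw [hg'0, hg0, Finset.prod_range_succ]; push_cast; ring

/-- The norm `1 + τ + ⋯ + τ ^ (p - 1)`. -/
noncomputable def N (a : ℤ) : Module.End k R := ∑ i ∈ Finset.range P.p, P.τ a ^ i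

theorem N_eq (a : ℤ) : P.N a = P.D a ^ (P.p - 1) := by
  have : Fact P.p.Prime := ⟨P.hp⟩
  have := P.hchar
  have key : (∑ i ∈ Finset.range P.p, (Polynomial.X : Polynomial k) ^ i) =
      (Polynomial.X - 1) ^ (P.p - 1) := by
    apply mul_right_cancel₀ (b := (Polynomial.X : Polynomial k) - 1)
    · intro h
      have := congrArg (Polynomial.eval 0) h
      simp at this
    · rw [geom_sum_mul, ← pow_succ, Nat.sub_add_cancel P.hp.one_le, sub_pow_char, one_pow]
  have := congrArg (Polynomial.aeval (P.τ a)) key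
  simpa [N, D, map_sum] using this

theorem D_pow_p (a : ℤ) (hτ : P.τ a ^ P.p = 1) : P.D a ^ P.p = 0 := by
  have : Fact P.p.Prime := ⟨P.hp⟩
  have := P.hchar
  have key : ((Polynomial.X : Polynomial k) - 1) ^ P.p = Polynomial.X ^ P.p - 1 := by
    rw [sub_pow_char, one_pow]
  have := congrArg (Polynomial.aeval (P.τ a)) key
  simpa [D, hτ] using this

/-- Positions (below `n`) carrying the first cohomology. -/
noncomputable def S (a : ℤ) : Finset ℕ :=
  (Finset.range P.n).filter fun m => ¬ (P.p : ℤ) ∣ a + m - P.n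

theorem exists_dvd_of_prod_eq_zero (a : ℤ) (m : ℕ)
    (h : (∏ i ∈ Finset.range (P.p - 1), -(((a + m + i * P.n : ℤ) : k) / (P.n : k))) = 0) :
    ¬ (P.p : ℤ) ∣ a + m - P.n := by
  obtain ⟨i, hi, hi0⟩ := Finset.prod_eq_zero_iff.1 h
  have h1 : (P.p : ℤ) ∣ a + m + i * P.n := by
    by_contra hne
    exact neg_ne_zero.2 (div_ne_zero ((P.cast_ne_zero_iff _).2 hne) P.n_ne_zero) hi0
  intro h2
  have h3 : (P.p : ℤ) ∣ ((i + 1 : ℕ) : ℤ) * P.n := by
    have := h1.sub h2
    push_cast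
    ring_nf at this ⊢
    exact this
  rcases Int.Prime.dvd_mul' P.hp h3 with h4 | h4
  · have := Nat.le_of_dvd (by omega) (Int.natCast_dvd_natCast.1 h4)
    have := Finset.mem_range.1 hi
    omega
  · exact P.hpn (Int.natCast_dvd_natCast.1 h4)

theorem coeff_eq_zero_of_N (a : ℤ) {m : ℕ} {y : R} (hy : P.N a y = 0) (hm : X ^ m ∣ y)
    (h : (P.p : ℤ) ∣ a + m - P.n) : X ^ (m + 1) ∣ y := by
  obtain ⟨f, rfl⟩ := hm
  obtain ⟨g, hg, hg0⟩ := P.D_iter a (P.p - 1) m f
  rw [← P.N_eq, hy] at hg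
  have hg' : g = 0 := by
    rcases mul_eq_zero.1 hg.symm with h0 | h0
    · exact absurd h0 (pow_ne_zero _ X_ne_zero)
    · exact h0
  rw [hg', map_zero] at hg0
  rcases mul_eq_zero.1 hg0.symm with h0 | h0
  · exact absurd h (P.exists_dvd_of_prod_eq_zero a m h0)
  · rw [pow_succ]
    exact mul_dvd_mul_left _ (X_dvd_iff.2 h0)

theorem coeff_eq_zero_of_D (a : ℤ) {m : ℕ} {y : R} (hy : P.D a y = 0) (hm : X ^ m ∣ y)
    (h : ¬ (P.p : ℤ) ∣ a + m) : X ^ (m + 1) ∣ y := by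
  obtain ⟨f, rfl⟩ := hm
  obtain ⟨g, hg, hg0⟩ := P.D_X_pow_mul a m f
  rw [hy] at hg
  have hg' : g = 0 := by
    rcases mul_eq_zero.1 hg.symm with h0 | h0
    · exact absurd h0 (pow_ne_zero _ X_ne_zero)
    · exact h0
  rw [hg', map_zero] at hg0
  rcases mul_eq_zero.1 hg0.symm with h0 | h0
  · exact absurd h0 (neg_ne_zero.2 (div_ne_zero ((P.cast_ne_zero_iff _).2 h) P.n_ne_zero))
  · rw [pow_succ]
    exact mul_dvd_mul_left _ (X_dvd_iff.2 h0)

/-- A linear map raising the order by `e`, onto a subspace of series of order at least `k₀ + e`. -/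
theorem solve (E : Module.End k R) (e : ℕ) (Y : Submodule k R) (hrange : ∀ f, E f ∈ Y)
    (hraise : ∀ (j : ℕ) (f : R), X ^ j ∣ f → X ^ (j + e) ∣ E f) (k₀ : ℕ)
    (hstep : ∀ j, k₀ ≤ j → ∀ r ∈ Y, X ^ (j + e) ∣ r → ∃ c : k, X ^ (j + e + 1) ∣ r - E (monomial j c))
    {y : R} (hy : y ∈ Y) (hy0 : X ^ (k₀ + e) ∣ y) : ∃ h : R, X ^ k₀ ∣ h ∧ E h = y := by
  classical
  choose! c hc using hstep
  let H : ℕ → R := fun i => Nat.rec 0 (fun i h => h + monomial (k₀ + i) (c (k₀ + i) (y - E h))) i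
  have hH : ∀ i, H (i + 1) = H i + monomial (k₀ + i) (c (k₀ + i) (y - E (H i))) := fun i => rfl
  have hres : ∀ i, X ^ (k₀ + i + e) ∣ y - E (H i) := by
    intro i
    induction i with
    | zero => simpa [H] using hy0
    | succ i ih =>
      have := hc (k₀ + i) (by omega) (y - E (H i)) (Y.sub_mem hy (hrange _)) ih
      rw [hH, map_add, show k₀ + (i + 1) + e = k₀ + i + e + 1 by omega, ← sub_sub]
      exact this
  have hstable : ∀ i i', i ≤ i' → X ^ (k₀ + i) ∣ H i' - H i := by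
    intro i i' h
    induction i', h using Nat.le_induction with
    | base => simp
    | succ i' h ih =>
      rw [hH, add_sub_right_comm]
      refine dvd_add ih (X_pow_dvd_iff.2 fun l hl => ?_)
      rw [coeff_monomial, if_neg (by omega)]
  let h : R := PowerSeries.mk fun l => coeff l (H (l + 1))
  have hclose : ∀ i, X ^ (k₀ + i) ∣ h - H i := by
    intro i
    refine X_pow_dvd_iff.2 fun l hl => ?_
    simp only [h, map_sub, coeff_mk]
    rcases le_total i (l + 1) with hle | hle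
    · exact (map_sub (coeff l) _ _).symm.trans (X_pow_dvd_iff.1 (hstable _ _ hle) l hl)
    · rw [← neg_sub, neg_eq_zero]
      exact (map_sub (coeff l) _ _).symm.trans (X_pow_dvd_iff.1 (hstable _ _ hle) l (by omega))
  refine ⟨h, by simpa [H] using hclose 0, sub_eq_zero.1 (PowerSeries.ext fun l => ?_)⟩
  rw [map_zero, show E h - y = E (h - H (l + 1)) - (y - E (H (l + 1))) by rw [map_sub]; ring]
  have h1 : X ^ (k₀ + (l + 1) + e) ∣ E (h - H (l + 1)) - (y - E (H (l + 1))) :=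
    dvd_sub (hraise _ _ (hclose _)) (hres _)
  exact X_pow_dvd_iff.1 h1 l (by omega)

theorem monomial_eq (j : ℕ) (c : k) : monomial j c = X ^ j * C c := by
  rw [monomial_eq_mk]
  ext l
  rw [coeff_mk, coeff_X_pow_mul']
  rcases lt_trichotomy l j with h | h | h
  · rw [if_neg (by omega), if_neg (by omega)]
  · subst h; simp
  · rw [if_neg (by omega), if_pos h.le, coeff_C, if_neg (by omega)]

theorem step_of_lead {E : Module.End k R} {j e : ℕ} (l : k)
    (hl : ∀ c : k, ∃ g : R, E (monomial j c) = X ^ (j + e) * g ∧ constantCoeff g = l * c) (hl0 : l ≠ 0)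
    {r : R} (hr : X ^ (j + e) ∣ r) : ∃ c : k, X ^ (j + e + 1) ∣ r - E (monomial j c) := by
  obtain ⟨f, rfl⟩ := hr
  obtain ⟨g, hg, hg0⟩ := hl (constantCoeff f / l)
  refine ⟨constantCoeff f / l, ?_⟩
  rw [hg, ← mul_sub, pow_succ]
  refine mul_dvd_mul_left _ (X_dvd_iff.2 ?_)
  rw [map_sub, hg0, mul_div_cancel₀ _ hl0, sub_self]

theorem mem_range_D (a : ℤ) (hτ : P.τ a ^ P.p = 1) {y : R} (hy : P.N a y = 0) (h0 : X ^ P.n ∣ y) :
    ∃ h, P.D a h = y := by
  obtain ⟨h, -, hh⟩ := solve (P.D a) P.n (LinearMap.ker (P.N a))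
    (fun f => by
      rw [LinearMap.mem_ker, P.N_eq, ← Module.End.mul_apply, ← pow_succ,
        Nat.sub_add_cancel P.hp.one_le, P.D_pow_p a hτ]
      rfl)
    (fun j f => P.D_dvd a) 0
    (fun j _ r hr hdvd => by
      by_cases hj : (P.p : ℤ) ∣ a + j
      · refine ⟨0, ?_⟩
        rw [map_zero, map_zero, sub_zero]
        exact P.coeff_eq_zero_of_N a hr hdvd (by push_cast; rwa [add_sub_assoc, add_sub_cancel_right])
      · refine step_of_lead (-(((a + j : ℤ) : k) / (P.n : k))) (fun c => ?_)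
          (neg_ne_zero.2 (div_ne_zero ((P.cast_ne_zero_iff _).2 hj) P.n_ne_zero)) hdvd
        obtain ⟨g, hg, hg0⟩ := P.D_X_pow_mul a j (C c)
        exact ⟨g, by rw [monomial_eq]; exact hg, by simpa using hg0⟩)
    hy (by simpa using h0)
  exact ⟨h, hh⟩

theorem exists_leading (a : ℤ) (hτ : P.τ a ^ P.p = 1) {m : ℕ} (hm : ¬ (P.p : ℤ) ∣ a + m - P.n) :
    ∃ v : R, P.N a v = 0 ∧ X ^ m ∣ v ∧ coeff m v = 1 := by
  set e := (P.p - 1) * P.n with he
  have hraise : ∀ (j : ℕ) (f : R), X ^ j ∣ f → X ^ (j + e) ∣ P.N a f := by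
    rintro j f ⟨f', rfl⟩
    obtain ⟨g, hg, -⟩ := P.D_iter a (P.p - 1) j f'
    exact ⟨g, by rw [P.N_eq, hg]⟩
  have hker : ∀ f, P.N a f ∈ LinearMap.ker (P.D a) := fun f => by
    rw [LinearMap.mem_ker, P.N_eq, ← Module.End.mul_apply, ← pow_succ',
      Nat.sub_add_cancel P.hp.one_le, P.D_pow_p a hτ]
    rfl
  have hdiv : ∀ j : ℕ, (P.p : ℤ) ∣ a + j - P.n ↔ (P.p : ℤ) ∣ a + (j + e : ℕ) := fun j => by
    have : a + ((j + e : ℕ) : ℤ) = a + j - P.n + (P.p : ℤ) * P.n := by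
      rw [he]; push_cast [Nat.cast_sub P.hp.one_le]; ring
    rw [this, Int.dvd_add_left (dvd_mul_right _ _)]
  obtain ⟨h, hh0, hh⟩ := solve (P.N a) e (LinearMap.ker (P.D a)) hker hraise (m + 1)
    (fun j _ r hr hdvd => by
      by_cases hj : (P.p : ℤ) ∣ a + j - P.n
      · refine step_of_lead (∏ i ∈ Finset.range (P.p - 1), -(((a + j + i * P.n : ℤ) : k) / (P.n : k)))
          (fun c => ?_) (fun h0 => P.exists_dvd_of_prod_eq_zero a j h0 hj) hdvd
        obtain ⟨g, hg, hg0⟩ := P.D_iter a (P.p - 1) j (C c)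
        exact ⟨g, by rw [monomial_eq, P.N_eq]; exact hg, by simpa using hg0⟩
      · refine ⟨0, ?_⟩
        rw [map_zero, map_zero, sub_zero]
        exact P.coeff_eq_zero_of_D a (LinearMap.mem_ker.1 hr) hdvd (mt (hdiv j).2 hj))
    (hker (X ^ m)) (by
      rw [show m + 1 + e = m + e + 1 by omega]
      exact P.coeff_eq_zero_of_D a (LinearMap.mem_ker.1 (hker _)) (hraise m _ dvd_rfl) (mt (hdiv m).2 hm))
  refine ⟨X ^ m - h, by rw [map_sub, hh, sub_self], dvd_sub dvd_rfl ((pow_dvd_pow X (by omega)).trans hh0), ?_⟩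
  rw [map_sub, coeff_X_pow_self, X_pow_dvd_iff.1 hh0 m (by omega), sub_zero]

/-- An invariant series `≡ 1 mod X ^ ((p - 1) n)` for the action with exponent `p`. -/
theorem exists_invariant [IsAlgClosed k] :
    ∃ V : Rˣ, X ^ ((P.p - 1) * P.n) ∣ (V : R) - 1 ∧ P.U ^ P.p * Units.map (P.σ : R →* R) V = V := by
  have := P.hchar
  have : Fact P.p.Prime := ⟨P.hp⟩
  obtain ⟨z, hz⟩ := IsAlgClosed.exists_pow_nat_eq (-1 : k) P.hn
  set m := P.p - 1 with hm
  have hm0 : m ≠ 0 := by have := P.hp.two_le; omega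
  have hs : PowerSeries.HasSubst (C z * (X : R) ^ m) :=
    PowerSeries.HasSubst.of_constantCoeff_zero' (by simp [hm0])
  set v : R := substAlgHom hs (P.U : R) with hv
  have hvn : v ^ P.n * (1 - X ^ (m * P.n)) = 1 := by
    have := congrArg (substAlgHom hs) P.hun
    rw [map_mul, map_pow, map_add, map_one, map_pow, substAlgHom_X, mul_pow, ← map_pow C, hz,
      ← pow_mul, map_neg, map_one, neg_one_mul, ← sub_eq_add_neg, ← hv] at this
    exact this
  have hv1 : constantCoeff v = 1 := by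
    have h1 := eq_X_mul_shift_add_const (P.U : R)
    rw [P.hu1, map_one] at h1
    rw [hv, h1, map_add, map_mul, substAlgHom_X, map_one]
    simp [hm0]
  have hV : IsUnit v := by rw [isUnit_iff_constantCoeff, hv1]; exact isUnit_one
  obtain ⟨e, he, -, hee⟩ := exists_geom_unit (n := P.n) P.n_ne_zero hv1 (map_one _)
  refine ⟨hV.unit, ?_, Units.ext ?_⟩
  · rw [IsUnit.unit_spec, ← IsUnit.dvd_mul_right he, hee, one_pow,
      show v ^ P.n - 1 = X ^ (m * P.n) * v ^ P.n from by linear_combination hvn]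
    exact dvd_mul_right _ _
  · rw [Units.val_mul, Units.val_pow_eq_pow_val, Units.coe_map, IsUnit.unit_spec]
    change (P.U : R) ^ P.p * P.σ v = v
    refine eq_of_pow_eq P.n_ne_zero (by simp [P.hu1, P.constantCoeff_σ, hv1]) hv1 ?_
    have : CharP R P.p := charP_of_injective_algebraMap (algebraMap k R).injective P.p
    set Y : R := X ^ P.n
    have hσ : P.σ v ^ P.n * (1 - (Y * (P.U : R) ^ P.n) ^ m) = 1 := by
      have := congrArg P.σ hvn
      rw [map_mul, map_pow, map_sub, map_one, map_pow, P.σ_X, mul_comm m, pow_mul, mul_pow] at this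
      exact this
    have hvn' : v ^ P.n * (1 - Y ^ m) = 1 := by rwa [← pow_mul, mul_comm P.n]
    -- `(1 + Y) ^ p (1 - (Y / (1 + Y)) ^ (p - 1)) = 1 - Y ^ (p - 1)`
    have hu : ((P.U : R) ^ P.p) ^ P.n * (1 + Y) ^ P.p = 1 := by
      rw [← pow_mul, mul_comm P.p, pow_mul, ← mul_pow, P.hun, one_pow]
    have hp1 : P.p = m + 1 := by have := P.hp.one_le; omega
    have hkey : (1 + Y) ^ P.p * (1 - (Y * (P.U : R) ^ P.n) ^ m) = 1 - Y ^ m := by
      have h1 : (1 + Y) ^ P.p = 1 + Y ^ P.p := by rw [add_pow_char, one_pow]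
      have h2 : (1 + Y) ^ P.p * (Y * (P.U : R) ^ P.n) ^ m =
          Y ^ m * (1 + Y) * ((P.U : R) ^ P.n * (1 + Y)) ^ m := by
        rw [hp1, pow_succ, mul_pow, mul_pow]; ring
      rw [mul_sub, mul_one, h2, P.hun, one_pow, mul_one, h1, hp1, pow_succ]
      ring
    rw [mul_pow]
    linear_combination
      (-(((P.U : R) ^ P.p) ^ P.n * P.σ v ^ P.n)) * hvn' +
      (v ^ P.n * (P.σ v ^ P.n * (1 - (Y * (P.U : R) ^ P.n) ^ m))) * hu +
      (-(((P.U : R) ^ P.p) ^ P.n * P.σ v ^ P.n * v ^ P.n)) * hkey +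
      (v ^ P.n) * hσ

end Twist

end Groth.Agent.ASCoverLib
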