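import Groth.Agent.ASCoverLib.Basic
import Mathlib.RepresentationTheory.Homological.GroupCohomology.LowDegree
import Mathlib.RepresentationTheory.Homological.GroupCohomology.Functoriality
import Mathlib.LinearAlgebra.Dimension.Constructions
import Mathlib.LinearAlgebra.FiniteDimensional.Basic

/-!
# `H¹` of a group of order `p` acting on power series through a twist
-/

universe u

open PowerSeries groupCohomology

namespace Groth.Agent.ASCoverLib

namespace Twist

variable {k : Type u} [Field k] (P : Twist k)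
variable {G : Type u} [Group G] (g : G) (ρ : Representation k G (PowerSeries k)) (a : ℤ)

/-- Partial sums `∑_{i < j} τ ^ i y`. -/
noncomputable def partialSum (y : PowerSeries k) (j : ℕ) : PowerSeries k :=
  ∑ i ∈ Finset.range j, (P.τ a ^ i) y

theorem partialSum_add (y : PowerSeries k) (i j : ℕ) :
    P.partialSum a y (i + j) = (P.τ a ^ i) (P.partialSum a y j) + P.partialSum a y i := by
  rw [partialSum, Finset.sum_range_add, add_comm, partialSum, map_sum]
  simp [partialSum, pow_add, Module.End.mul_apply]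

section

variable (hρ : ρ g = P.τ a) (hG : Nat.card G = P.p) (hg : ∀ x : G, x ∈ Subgroup.zpowers g)

include hG hg in
theorem orderOf_g : orderOf g = P.p := by
  rw [orderOf_eq_card_of_forall_mem_zpowers hg, hG]

include hρ hG hg in
theorem τ_pow_p : P.τ a ^ P.p = 1 := by
  rw [← hρ, ← map_pow, ← P.orderOf_g g hG hg, pow_orderOf_eq_one, map_one]

include hG hg in
theorem exists_pow [Finite G] (x : G) : ∃ j : ℕ, g ^ j = x :=
  (mem_powers_iff_mem_zpowers).2 (hg x)

include hρ in
theorem cocycle_pow (f : cocycles₁ (Rep.of ρ)) (j : ℕ) : f (g ^ j) = P.partialSum a (f g) j := by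
  induction j with
  | zero => simp [partialSum]
  | succ j ih =>
    have hmul : f (g ^ j * g) = (Rep.of ρ).ρ (g ^ j) (f g) + f (g ^ j) :=
      (mem_cocycles₁_iff (⇑f)).1 f.2 _ _
    rw [pow_succ, hmul, ih, partialSum, partialSum, Finset.sum_range_succ, add_comm]
    congr 1
    change ρ (g ^ j) (f g) = _
    rw [map_pow, hρ]

include hρ hG hg in
theorem N_eval (f : cocycles₁ (Rep.of ρ)) : P.N a (f g) = 0 := by
  have := P.cocycle_pow g ρ a hρ f P.p
  rw [← P.orderOf_g g hG hg, pow_orderOf_eq_one, P.orderOf_g g hG hg, cocycles₁_map_one] at this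
  rw [N, LinearMap.sum_apply]
  exact this.symm

include hρ hG hg in
theorem exists_cocycle [Finite G] {y : PowerSeries k} (hy : P.N a y = 0) :
    ∃ f : cocycles₁ (Rep.of ρ), f g = y := by
  choose J hJ using P.exists_pow g hG hg
  have hper : ∀ i j : ℕ, P.partialSum a y (i + P.p * j) = P.partialSum a y i := by
    intro i j
    induction j with
    | zero => simp
    | succ j ih =>
      rw [show i + P.p * (j + 1) = (i + P.p * j) + P.p by ring, P.partialSum_add]
      have : P.partialSum a y P.p = 0 := by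
        rw [N, LinearMap.sum_apply] at hy; exact hy
      rw [this, map_zero, zero_add, ih]
  have hcongr : ∀ i j : ℕ, g ^ i = g ^ j → P.partialSum a y i = P.partialSum a y j := by
    intro i j h
    wlog hle : i ≤ j generalizing i j
    · exact (this j i h.symm (le_of_not_ge hle)).symm
    rw [pow_eq_pow_iff_modEq, P.orderOf_g g hG hg] at h
    obtain ⟨c, hc⟩ := (Nat.modEq_iff_dvd' hle).1 h
    rw [show j = i + P.p * c by omega, hper]
  refine ⟨⟨fun x => P.partialSum a y (J x), (mem_cocycles₁_iff _).2 fun x x' => ?_⟩, ?_⟩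
  · change _ = ρ x (P.partialSum a y (J x')) + P.partialSum a y (J x)
    rw [hcongr (J (x * x')) (J x + J x') (by rw [pow_add, hJ, hJ, hJ]), P.partialSum_add]
    conv_rhs => enter [1]; rw [← hJ x, map_pow, hρ]
  · change P.partialSum a y (J g) = y
    rw [hcongr (J g) 1 (by rw [hJ, pow_one])]
    simp [partialSum]

/-- The coefficients at the positions `P.S a` of the value at the generator. -/
noncomputable def Φ : cocycles₁ (Rep.of ρ) →ₗ[k] (P.S a → k) where
  toFun f m := coeff (m : ℕ) (f g : PowerSeries k)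
  map_add' f f' := funext fun m => map_add (coeff (m : ℕ)) (f g : PowerSeries k) (f' g)
  map_smul' c f := funext fun m => map_smul (coeff (m : ℕ)) c (f g : PowerSeries k)

theorem Φ_apply (f : cocycles₁ (Rep.of ρ)) (m : P.S a) :
    P.Φ g ρ a f m = coeff (m : ℕ) (f g : PowerSeries k) := rfl

include hρ hG hg in
theorem Φ_eq_zero_iff [Finite G] (f : cocycles₁ (Rep.of ρ)) :
    P.Φ g ρ a f = 0 ↔ H1π (Rep.of ρ) f = 0 := by
  have hτ := P.τ_pow_p g ρ a hρ hG hg
  have hN := P.N_eval g ρ a hρ hG hg f
  rw [H1π_eq_zero_iff]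
  constructor
  · intro h
    have hX : ∀ j, j ≤ P.n → X ^ j ∣ (f g : PowerSeries k) := by
      intro j
      induction j with
      | zero => simp
      | succ j ih =>
        intro hj
        by_cases hjS : (P.p : ℤ) ∣ a + j - P.n
        · exact P.coeff_eq_zero_of_N a hN (ih (by omega)) hjS
        · refine X_pow_dvd_iff.2 fun l hl => ?_
          rcases Nat.lt_succ_iff_lt_or_eq.1 hl with hl | rfl
          · exact X_pow_dvd_iff.1 (ih (by omega)) l hl
          · exact congrFun h ⟨l, Finset.mem_filter.2 ⟨Finset.mem_range.2 hj, hjS⟩⟩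
    obtain ⟨v, hv⟩ := P.mem_range_D a hτ hN (hX P.n le_rfl)
    refine ⟨v, funext fun x => ?_⟩
    obtain ⟨j, rfl⟩ := P.exists_pow g hG hg x
    change ρ (g ^ j) v - v = f (g ^ j)
    rw [P.cocycle_pow g ρ a hρ f j, ← hv, map_pow, hρ, partialSum]
    clear hv
    induction j with
    | zero => simp
    | succ j ih =>
      rw [Finset.sum_range_succ, ← ih, pow_succ, Module.End.mul_apply, D, LinearMap.sub_apply, map_sub,
        Module.End.one_apply]
      abel
  · rintro ⟨v, hv⟩
    funext m
    have h1 : ρ g v - v = f g := congrFun hv g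
    rw [P.Φ_apply, ← h1, hρ, Pi.zero_apply]
    exact P.coeff_D_of_lt a v (Finset.mem_range.1 (Finset.mem_filter.1 m.2).1)

include hρ hG hg in
theorem Φ_surjective [Finite G] : Function.Surjective (P.Φ g ρ a) := by
  classical
  have hτ := P.τ_pow_p g ρ a hρ hG hg
  have hex : ∀ m : P.S a, ∃ f : cocycles₁ (Rep.of ρ),
      X ^ (m : ℕ) ∣ (f g : PowerSeries k) ∧ coeff (m : ℕ) (f g : PowerSeries k) = 1 := fun m => by
    obtain ⟨v, hv, hv1, hv2⟩ := P.exists_leading a hτ (m := m) (Finset.mem_filter.1 m.2).2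
    obtain ⟨f, hf⟩ := P.exists_cocycle g ρ a hρ hG hg hv
    exact ⟨f, by rw [hf]; exact ⟨hv1, hv2⟩⟩
  choose b hb1 hb2 using hex
  let L : (P.S a → k) →ₗ[k] (P.S a → k) :=
    (Fintype.linearCombination k fun m => P.Φ g ρ a (b m))
  have hL : Function.Injective L := by
    rw [injective_iff_map_eq_zero]
    intro c hc
    funext m
    induction m using WellFoundedLT.induction with
    | ind m ih =>
      have := congrFun hc m
      simp only [L, Fintype.linearCombination_apply, Finset.sum_apply, Pi.smul_apply, Pi.zero_apply,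
        smul_eq_mul] at this
      rw [Finset.sum_eq_single m ?_ (fun h => absurd (Finset.mem_univ _) h), P.Φ_apply, hb2, mul_one] at this
      · exact this
      · intro m' _ hne
        rcases lt_or_gt_of_ne hne with h | h
        · rw [ih m' h, Pi.zero_apply, zero_mul]
        · rw [P.Φ_apply, X_pow_dvd_iff.1 (hb1 m') m h, mul_zero]
  intro c
  obtain ⟨d, hd⟩ := LinearMap.surjective_of_injective hL c
  refine ⟨∑ m, d m • b m, ?_⟩
  rw [map_sum, ← hd]
  simp [L, Fintype.linearCombination_apply]

include hρ hG hg in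
/-- `H¹(G, B) ≅ k ^ S`. -/
theorem exists_equiv [Finite G] : ∃ e : H1 (Rep.of ρ) ≃ₗ[k] (P.S a → k),
    ∀ f, e (H1π (Rep.of ρ) f) = P.Φ g ρ a f := by
  have hsurj : Function.Surjective (H1π (Rep.of ρ)).hom :=
    (ModuleCat.epi_iff_surjective _).1 inferInstance
  have hk : LinearMap.ker (H1π (Rep.of ρ)).hom = LinearMap.ker (P.Φ g ρ a) := by
    ext f
    exact (P.Φ_eq_zero_iff g ρ a hρ hG hg f).symm
  refine ⟨((H1π (Rep.of ρ)).hom.quotKerEquivOfSurjective hsurj).symm ≪≫ₗ Submodule.quotEquivOfEq _ _ hk ≪≫ₗ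
    (P.Φ g ρ a).quotKerEquivOfSurjective (P.Φ_surjective g ρ a hρ hG hg), fun f => ?_⟩
  have : ((H1π (Rep.of ρ)).hom.quotKerEquivOfSurjective hsurj).symm (H1π (Rep.of ρ) f) =
      Submodule.Quotient.mk f := (LinearEquiv.symm_apply_eq _).2 rfl
  simp [this]

end

/-- The number of positions. -/
theorem card_S : ((P.S a).card : ℤ) = P.n - (a - 1) / (P.p : ℤ) + (a - 1 - P.n) / (P.p : ℤ) := by
  have hp0 : (P.p : ℤ) ≠ 0 := by exact_mod_cast P.hp.ne_zero
  suffices ∀ r : ℕ, (((Finset.range r).filter fun m : ℕ => ¬ (P.p : ℤ) ∣ a + m - P.n).card : ℤ) =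
      r - (a + r - 1 - P.n) / (P.p : ℤ) + (a - 1 - P.n) / (P.p : ℤ) by
    rw [S, this P.n, show a + P.n - 1 - P.n = a - 1 by ring]
  intro r
  induction r with
  | zero => simp
  | succ r ih =>
    have key : (a + r - P.n) / (P.p : ℤ) - (a + r - P.n - 1) / (P.p : ℤ) =
        if (P.p : ℤ) ∣ a + r - P.n then 1 else 0 := by
      have h1 := Int.emod_nonneg (a + r - P.n - 1) hp0
      have h2 := Int.emod_lt_of_pos (a + r - P.n - 1) (show (0 : ℤ) < P.p by exact_mod_cast P.hp.pos)
      have h3 := Int.mul_ediv_add_emod (a + r - P.n - 1) P.p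
      set q := (a + r - P.n - 1) / (P.p : ℤ)
      set s := (a + r - P.n - 1) % (P.p : ℤ)
      have h4 : a + r - P.n = (s + 1) + (P.p : ℤ) * q := by linarith
      rw [h4, Int.add_mul_ediv_left _ _ hp0, add_sub_cancel_right]
      simp only [Int.dvd_add_left (dvd_mul_right (P.p : ℤ) q)]
      split_ifs with h
      · have : s + 1 = P.p := by
          obtain ⟨c, hc⟩ := h
          rcases lt_trichotomy c 1 with hc1 | hc1 | hc1
          · nlinarith
          · rw [hc, hc1, mul_one]
          · nlinarith
        rw [this, Int.ediv_self hp0]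
      · refine Int.ediv_eq_zero_of_lt (by omega) ?_
        rcases lt_or_eq_of_le (show s + 1 ≤ P.p by omega) with hh | hh
        · exact hh
        · exact absurd (hh ▸ dvd_rfl) h
    rw [Finset.range_add_one, Finset.filter_insert]
    rw [show a + ((r + 1 : ℕ) : ℤ) - 1 - P.n = a + r - P.n by push_cast; ring,
      show a + (r : ℤ) - 1 - P.n = a + r - P.n - 1 by ring] at *
    split_ifs with h
    · rw [if_pos h] at key
      push_cast
      linarith
    · rw [if_neg h] at key
      rw [Finset.card_insert_of_notMem (by simp)]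
      push_cast
      linarith

end Twist

end Groth.Agent.ASCoverLib
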