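import Groth.Agent.ASCoverLib.Cohom
import Mathlib.LinearAlgebra.FiniteDimensional.Basic

/-!
# The image of `H¹(G, B) → H¹(G, B dt)` induced by the derivative
-/

universe u

open PowerSeries groupCohomology CategoryTheory

namespace Groth.Agent.ASCoverLib

variable {k : Type u} [Field k]

theorem map_H1π {G : Type u} [Group G] {A B : Rep k G} (φ : A ⟶ B) (f : cocycles₁ A) :
    ∃ f' : cocycles₁ B, ((groupCohomology.functor k G 1).map φ).hom (H1π A f) = H1π B f' ∧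
      ∀ x, f' x = φ.hom (f x) :=
  ⟨mapCocycles₁ (MonoidHom.id G) φ f, H1π_comp_map_apply (MonoidHom.id G) φ f, fun _ => rfl⟩

/-- A triangular family in `s → k` is linearly independent. -/
theorem triangular_independent {s : Finset ℕ} {ι : Type*} [LinearOrder ι] [WellFoundedLT ι] [Fintype ι] (pos : ι → s)
    (hpos : StrictMono pos) (w : ι → (s → k)) (h0 : ∀ i i' : ι, i < i' → w i' (pos i) = 0)
    (h1 : ∀ i, w i (pos i) ≠ 0) : LinearIndependent k w := by
  classical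
  rw [Fintype.linearIndependent_iff]
  intro c hc i
  induction i using WellFoundedLT.induction with
  | ind i ih =>
    have := congrFun hc (pos i)
    simp only [Finset.sum_apply, Pi.smul_apply, Pi.zero_apply, smul_eq_mul] at this
    rw [Finset.sum_eq_single i ?_ (fun h => absurd (Finset.mem_univ _) h)] at this
    · exact (mul_eq_zero.1 this).resolve_right (h1 i)
    · intro i' _ hne
      rcases lt_or_gt_of_ne hne with h | h
      · rw [ih i' h, zero_mul]
      · rw [h0 i i' h, mul_zero]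

namespace Twist

variable (P : Twist k)

theorem exists_invariant_leading [IsAlgClosed k] (q : ℕ) :
    ∃ W : PowerSeries k, P.D 0 (X ^ (P.p * q) * W) = 0 ∧ constantCoeff W = 1 ∧
      (q = 0 → W = 1) ∧ X ^ P.n ∣ W - 1 := by
  obtain ⟨V, hV, hinv⟩ := P.exists_invariant
  have hn' : X ^ P.n ∣ (V : PowerSeries k) - 1 :=
    (pow_dvd_pow X (Nat.le_mul_of_pos_left P.n (Nat.sub_pos_of_lt P.hp.one_lt))).trans hV
  have hdvd := dvd_zpow_sub_one V hn' q
  rw [zpow_natCast, Units.val_pow_eq_pow_val] at hdvd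
  refine ⟨(V : PowerSeries k) ^ q, ?_, ?_, fun h => by rw [h, pow_zero], hdvd⟩
  · rw [P.D_apply, zpow_zero, Units.val_one, one_mul, map_mul, map_pow, map_pow, P.σ_X, mul_pow, pow_mul,
      pow_mul, sub_eq_zero, mul_assoc, ← mul_pow ((P.U : PowerSeries k) ^ P.p)]
    congr 2
    exact congrArg Units.val hinv
  · have hV0 : (constantCoeff : PowerSeries k →+* k) ((V : PowerSeries k) ^ q - 1) = 0 :=
      X_dvd_iff.1 ((dvd_pow_self X P.hn.ne').trans hdvd)
    rwa [map_sub, map_one, sub_eq_zero] at hV0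

variable {G : Type u} [Group G] [Finite G] (g : G) (ρ₀ ρ₁ : Representation k G (PowerSeries k))

set_option maxHeartbeats 400000 in
theorem finrank_range_derivative [IsAlgClosed k]
    (hρ₀ : ρ₀ g = P.τ 0) (hρ₁ : ρ₁ g = P.τ ((P.n + 1 : ℕ) : ℤ))
    (hG : Nat.card G = P.p) (hg : ∀ x : G, x ∈ Subgroup.zpowers g)
    (φ : Rep.of ρ₀ ⟶ Rep.of ρ₁) (hφ : ∀ h : PowerSeries k, φ.hom h = PowerSeries.derivative k h) :
    Module.Finite k (LinearMap.range ((groupCohomology.functor k G 1).map φ).hom) ∧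
      (Module.finrank k (LinearMap.range ((groupCohomology.functor k G 1).map φ).hom) : ℤ) =
        ((P.n + 1) * (P.p - 1) : ℤ) / P.p - 1 - (P.n - 1 : ℤ) / P.p := by
  classical
  have hτ₀ := P.τ_pow_p g ρ₀ 0 hρ₀ hG hg
  obtain ⟨e₀, he₀⟩ := P.exists_equiv g ρ₀ 0 hρ₀ hG hg
  obtain ⟨e₁, he₁⟩ := P.exists_equiv g ρ₁ _ hρ₁ hG hg
  set F : H1 (Rep.of ρ₀) →ₗ[k] H1 (Rep.of ρ₁) := ((groupCohomology.functor k G 1).map φ).hom
  let M : (P.S 0 → k) →ₗ[k] (P.S ((P.n + 1 : ℕ) : ℤ) → k) := (e₁ : _ →ₗ[k] _) ∘ₗ F ∘ₗ (e₀.symm : _ →ₗ[k] _)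
  have hM : ∀ (f : cocycles₁ (Rep.of ρ₀)) (j : P.S ((P.n + 1 : ℕ) : ℤ)),
      M (P.Φ g ρ₀ 0 f) j = coeff ((j : ℕ) + 1) (f g : PowerSeries k) * ((j : ℕ) + 1) := by
    intro f j
    have h1 : e₀.symm (P.Φ g ρ₀ 0 f) = H1π (Rep.of ρ₀) f := by rw [← he₀ f, e₀.symm_apply_apply]
    obtain ⟨f', h2, h3⟩ := map_H1π φ f
    simp only [M, LinearMap.comp_apply, LinearEquiv.coe_coe, h1]
    rw [show F (H1π (Rep.of ρ₀) f) = H1π (Rep.of ρ₁) f' from h2, he₁, P.Φ_apply, h3, hφ, coeff_derivative]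
  have hS : ∀ m : P.S 0, (m : ℕ) < P.n ∧ ¬ (P.p : ℤ) ∣ 0 + ((m : ℕ) : ℤ) - P.n := fun m =>
    ⟨Finset.mem_range.1 (Finset.mem_filter.1 m.2).1, (Finset.mem_filter.1 m.2).2⟩
  have hex : ∀ m : P.S 0, ∃ f : cocycles₁ (Rep.of ρ₀),
      X ^ (m : ℕ) ∣ (f g : PowerSeries k) ∧ coeff (m : ℕ) (f g : PowerSeries k) = 1 ∧
      (P.p ∣ (m : ℕ) → M (P.Φ g ρ₀ 0 f) = 0) := by
    intro m
    by_cases hm : P.p ∣ (m : ℕ)
    · obtain ⟨q, hq⟩ := hm
      obtain ⟨W, hW, hW0, hq0, hWn⟩ := P.exists_invariant_leading q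
      rw [← hq] at hW
      have hN : P.N 0 (X ^ (m : ℕ) * W) = 0 := by
        rw [P.N_eq, show P.p - 1 = P.p - 2 + 1 by have := P.hp.two_le; omega, pow_succ, Module.End.mul_apply, hW,
          map_zero]
      obtain ⟨f, hf⟩ := P.exists_cocycle g ρ₀ 0 hρ₀ hG hg hN
      refine ⟨f, by rw [hf]; exact dvd_mul_right _ _, ?_, fun _ => funext fun j => ?_⟩
      · rw [hf, coeff_X_pow_mul', if_pos le_rfl, Nat.sub_self, coeff_zero_eq_constantCoeff, hW0]
      · rw [hM, hf, Pi.zero_apply]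
        obtain ⟨hj1, hj2⟩ := Finset.mem_filter.1 j.2
        have hjp : ¬ P.p ∣ (j : ℕ) + 1 := fun hd => hj2 (by
          rw [show ((P.n + 1 : ℕ) : ℤ) + ((j : ℕ) : ℤ) - P.n = (((j : ℕ) + 1 : ℕ) : ℤ) by push_cast; ring]
          exact Int.natCast_dvd_natCast.2 hd)
        have hjm : (j : ℕ) + 1 ≠ m := fun he => hjp (he ▸ ⟨q, hq⟩)
        rw [coeff_X_pow_mul']
        split_ifs with hle
        · rw [mul_eq_zero]
          left
          rcases Nat.eq_zero_or_pos q with h | h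
          · rw [hq0 h, coeff_one, if_neg (by omega)]
          · have hmp : 0 < (m : ℕ) := by rw [hq]; exact Nat.mul_pos P.hp.pos h
            have := Finset.mem_range.1 hj1
            have h4 := X_pow_dvd_iff.1 hWn ((j : ℕ) + 1 - m) (by omega)
            rwa [map_sub, coeff_one, if_neg (by omega), sub_zero] at h4
        · rw [zero_mul]
    · obtain ⟨v, hv, hv1, hv2⟩ := P.exists_leading 0 hτ₀ (hS m).2
      obtain ⟨f, hf⟩ := P.exists_cocycle g ρ₀ 0 hρ₀ hG hg hv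
      exact ⟨f, by rw [hf]; exact hv1, by rw [hf]; exact hv2, fun h => absurd h hm⟩
  choose b hb1 hb2 hb3 using hex
  let B : P.S 0 → (P.S 0 → k) := fun m => P.Φ g ρ₀ 0 (b m)
  have hB : LinearIndependent k B := triangular_independent id strictMono_id B
    (fun i i' h => X_pow_dvd_iff.1 (hb1 i') i h) (fun i => by
      change coeff (i : ℕ) (b i g : PowerSeries k) ≠ 0
      rw [hb2]; exact one_ne_zero)
  have hspan : Submodule.span k (Set.range B) = ⊤ :=
    hB.span_eq_top_of_card_eq_finrank' (Module.finrank_fintype_fun_eq_card k).symm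
  let T := {m : P.S 0 // ¬ P.p ∣ (m : ℕ)}
  have hT1 : ∀ m : T, 1 ≤ (m.1 : ℕ) := fun m => Nat.pos_of_ne_zero fun h0 => m.2 (h0 ▸ dvd_zero _)
  let pos : T → P.S ((P.n + 1 : ℕ) : ℤ) := fun m => ⟨(m.1 : ℕ) - 1, Finset.mem_filter.2
    ⟨Finset.mem_range.2 (by have := (hS m.1).1; omega), by
      rw [show ((P.n + 1 : ℕ) : ℤ) + (((m.1 : ℕ) - 1 : ℕ) : ℤ) - P.n = ((m.1 : ℕ) : ℤ) by
        push_cast [Nat.cast_sub (hT1 m)]; ring]
      exact fun h => m.2 (Int.natCast_dvd_natCast.1 h)⟩⟩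
  have hw : LinearIndependent k (fun m : T => M (B m.1)) := by
    refine triangular_independent pos (fun i i' h => ?_) _ (fun i i' h => ?_) (fun i => ?_)
    · change (i.1 : ℕ) - 1 < (i'.1 : ℕ) - 1
      have : (i.1 : ℕ) < (i'.1 : ℕ) := h
      have := hT1 i
      omega
    · rw [hM]
      change coeff ((i.1 : ℕ) - 1 + 1) (b i'.1 g : PowerSeries k) * _ = 0
      rw [Nat.sub_add_cancel (hT1 i), X_pow_dvd_iff.1 (hb1 i'.1) (i.1 : ℕ) h, zero_mul]
    · rw [hM]
      change coeff ((i.1 : ℕ) - 1 + 1) (b i.1 g : PowerSeries k) * _ ≠ 0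
      rw [Nat.sub_add_cancel (hT1 i), hb2, one_mul]
      change (((i.1 : ℕ) - 1 : ℕ) : k) + 1 ≠ 0
      rw [← Nat.cast_add_one, Nat.sub_add_cancel (hT1 i)]
      have := P.hchar
      exact fun h => i.2 ((CharP.cast_eq_zero_iff k P.p _).1 h)
  have hrangeM : LinearMap.range M = Submodule.span k (Set.range fun m : T => M (B m.1)) := by
    rw [LinearMap.range_eq_map, ← hspan, Submodule.map_span]
    refine le_antisymm (Submodule.span_le.2 ?_) (Submodule.span_le.2 ?_)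
    · rintro _ ⟨_, ⟨m, rfl⟩, rfl⟩
      by_cases hm : P.p ∣ (m : ℕ)
      · exact (hb3 m hm).symm ▸ zero_mem (Submodule.span k _)
      · exact Submodule.subset_span ⟨⟨m, hm⟩, rfl⟩
    · rintro _ ⟨m, rfl⟩
      exact Submodule.subset_span ⟨_, ⟨m.1, rfl⟩, rfl⟩
  have hrange : (LinearMap.range F).map (e₁ : _ →ₗ[k] _) = LinearMap.range M := by
    simp only [M, LinearMap.range_comp, LinearEquiv.range, Submodule.map_top]
  let E : LinearMap.range F ≃ₗ[k] LinearMap.range M :=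
    (e₁.submoduleMap _).trans (LinearEquiv.ofEq _ _ hrange)
  refine ⟨Module.Finite.equiv E.symm, ?_⟩
  change (Module.finrank k (LinearMap.range F) : ℤ) = _
  rw [E.finrank_eq, hrangeM, finrank_span_eq_card hw]
  have hTc : Fintype.card T + ((Finset.range P.n).filter fun m : ℕ => P.p ∣ m).card = (P.S 0).card := by
    have h1 : Fintype.card T = ((P.S 0).filter fun m => ¬ P.p ∣ m).card := by
      rw [← Fintype.card_coe ((P.S 0).filter fun m => ¬ P.p ∣ m)]
      exact Fintype.card_congr ⟨fun m => ⟨m.1.1, Finset.mem_filter.2 ⟨m.1.2, m.2⟩⟩,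
        fun m => ⟨⟨m.1, (Finset.mem_filter.1 m.2).1⟩, (Finset.mem_filter.1 m.2).2⟩, fun _ => rfl, fun _ => rfl⟩
    have h2 : ((Finset.range P.n).filter fun m : ℕ => P.p ∣ m) = (P.S 0).filter fun m => P.p ∣ m := by
      ext m
      simp only [Finset.mem_filter, S]
      refine ⟨fun ⟨hm, hd⟩ => ⟨⟨hm, fun h => P.hpn ?_⟩, hd⟩, fun ⟨⟨hm, _⟩, hd⟩ => ⟨hm, hd⟩⟩
      rw [zero_add] at h
      exact Int.natCast_dvd_natCast.1 ((dvd_sub_right (Int.natCast_dvd_natCast.2 hd)).1 h)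
    rw [h1, h2, add_comm, Finset.card_filter_add_card_filter_not]
  have hSn : (P.S (P.n : ℤ)).card + ((Finset.range P.n).filter fun m : ℕ => P.p ∣ m).card = P.n := by
    have : P.S (P.n : ℤ) = (Finset.range P.n).filter fun m : ℕ => ¬ P.p ∣ m := by
      refine Finset.filter_congr fun m _ => ?_
      rw [add_sub_cancel_left, Int.natCast_dvd_natCast]
    rw [this, add_comm, Finset.card_filter_add_card_filter_not, Finset.card_range]
  have hp0 : (P.p : ℤ) ≠ 0 := by exact_mod_cast P.hp.ne_zero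
  have hneg : (-1 : ℤ) / (P.p : ℤ) = -1 := by
    rw [show (-1 : ℤ) = ((P.p : ℤ) - 1) + (P.p : ℤ) * (-1) by ring, Int.add_mul_ediv_left _ _ hp0,
      Int.ediv_eq_zero_of_lt (by have := P.hp.one_lt; omega) (by omega)]
    ring
  have c0 := P.card_S 0
  have cn := P.card_S (P.n : ℤ)
  rw [show (0 : ℤ) - 1 = -1 by ring, hneg] at c0
  rw [show (P.n : ℤ) - 1 - P.n = -1 by ring, hneg] at cn
  rw [show ((P.n : ℤ) + 1) * ((P.p : ℤ) - 1) = (-1 - P.n) + (P.p : ℤ) * (P.n + 1) by ring,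
    Int.add_mul_ediv_left _ _ hp0]
  push_cast [← hTc] at c0
  omega

end Twist

end Groth.Agent.ASCoverLib
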